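import Cfsg.Agent.Lib.Large.PairBase
import Cfsg.Agent.Lib.Comp.FStar
import Cfsg.Agent.Lib.ThreeT.Components

/-! Extraspecial groups given as generalized Fitting subgroups of involution centralizers, and criteria. -/

set_option autoImplicit false

namespace Cfsg.Lib.Large.Pair

open Cfsg.Agent.S5595 (Data)

variable {G : Type*} [Group G] [Finite G]

theorem of_fstar {z : G} (hz : orderOf z = 2) {Q : Subgroup G}
    (hF : (Cfsg.generalizedFittingSubgroup ↥(Subgroup.centralizer ({z} : Set G))).map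
      (Subgroup.centralizer ({z} : Set G)).subtype = Q)
    (hQ : Cfsg.IsExtraspecial 2 ↥Q) :
    (Subgroup.center ↥Q).map Q.subtype = Subgroup.zpowers z ∧
      Subgroup.centralizer (Q : Set G) = (Subgroup.center ↥Q).map Q.subtype ∧
      Subgroup.centralizer (((Subgroup.center ↥Q).map Q.subtype : Subgroup G) : Set G) ≤
        Subgroup.normalizer (Q : Set G) ∧ Data z Q := by
  set C := Subgroup.centralizer ({z} : Set G)
  set F := Cfsg.generalizedFittingSubgroup ↥C
  have hzC : z ∈ C := Subgroup.mem_centralizer_singleton_iff.2 rfl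
  have hzcen : (⟨z, hzC⟩ : C) ∈ Subgroup.center C := Subgroup.mem_center_iff.2 fun c =>
    Subtype.ext (Subgroup.mem_centralizer_singleton_iff.1 c.2)
  have hzF : (⟨z, hzC⟩ : C) ∈ F := Cfsg.Lib.Comp.fitting_le_fstar (Cfsg.Lib.ThreeT.center_le_fitting hzcen)
  have hzQ : z ∈ Q := hF ▸ ⟨_, hzF, rfl⟩
  have hQle : Q ≤ C := hF ▸ Subgroup.map_subtype_le F
  have hzc : (⟨z, hzQ⟩ : Q) ∈ Subgroup.center Q := Subgroup.mem_center_iff.2 fun q =>
    Subtype.ext (Subgroup.mem_centralizer_singleton_iff.1 (hQle q.2))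
  have hcenter : (Subgroup.center ↥Q).map Q.subtype = Subgroup.zpowers z := by
    refine (Subgroup.eq_of_le_of_card_ge (Subgroup.zpowers_le.2 (Subgroup.mem_map_of_mem Q.subtype hzc : z ∈ _)) ?_).symm
    rw [Nat.card_congr (Subgroup.equivMapOfInjective _ _ Q.subtype_injective).symm.toEquiv, hQ.2,
      Nat.card_zpowers]; exact hz.ge
  have hL2 : Subgroup.centralizer (Q : Set G) = (Subgroup.center ↥Q).map Q.subtype := by
    refine le_antisymm (fun c hc => ?_) ?_
    · have hcC : c ∈ C := Subgroup.mem_centralizer_singleton_iff.2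
        ((Subgroup.mem_centralizer_iff.1 hc) z hzQ).symm
      have hc' : (⟨c, hcC⟩ : C) ∈ Subgroup.centralizer (F : Set C) :=
        Subgroup.mem_centralizer_iff.2 fun f hf =>
          Subtype.ext ((Subgroup.mem_centralizer_iff.1 hc) f (hF ▸ ⟨f, hf, rfl⟩))
      have hcF : (⟨c, hcC⟩ : C) ∈ F := Cfsg.Lib.Comp.centralizer_fstar_le hc'
      have hcQ : c ∈ Q := hF ▸ ⟨_, hcF, rfl⟩
      exact ⟨⟨c, hcQ⟩, Subgroup.mem_center_iff.2 fun q => Subtype.ext ((Subgroup.mem_centralizer_iff.1 hc) q q.2), rfl⟩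
    · rintro _ ⟨a, ha, rfl⟩
      exact Subgroup.mem_centralizer_iff.2 fun q hq =>
        congrArg Subtype.val (Subgroup.mem_center_iff.1 ha ⟨q, hq⟩)
  have hL3 : Subgroup.centralizer (((Subgroup.center ↥Q).map Q.subtype : Subgroup G) : Set G) ≤
      Subgroup.normalizer (Q : Set G) := by
    intro c hc
    have hcC : c ∈ C := Subgroup.mem_centralizer_singleton_iff.2
      ((Subgroup.mem_centralizer_iff.1 hc) z (hcenter ▸ Subgroup.mem_zpowers z)).symm
    have key : ∀ d ∈ C, ∀ q ∈ Q, d * q * d⁻¹ ∈ Q := by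
      intro d hd q hq
      rw [← hF] at hq ⊢
      obtain ⟨f, hf, rfl⟩ := hq
      exact ⟨⟨d, hd⟩ * f * ⟨d, hd⟩⁻¹, Subgroup.Normal.conj_mem inferInstance f hf _, rfl⟩
    rw [Subgroup.mem_normalizer_iff]
    refine fun q => ⟨fun hq => key c hcC q hq, fun hq => ?_⟩
    have := key c⁻¹ (C.inv_mem hcC) _ hq
    rwa [show c⁻¹ * (c * q * c⁻¹) * c⁻¹⁻¹ = q by group] at this
  exact ⟨hcenter, hL2, hL3, data_of hQ hL2 hL3 hz hcenter⟩

omit [Finite G] in
theorem closure_pair_cases {a b : G} (ha : a * a = 1) (hb : b * b = 1) (hab : a * b = b * a) {v : G}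
    (hv : v ∈ Subgroup.closure ({a, b} : Set G)) : v = 1 ∨ v = a ∨ v = b ∨ v = a * b := by
  have e1 : a * (a * b) = b := by rw [← mul_assoc, ha, one_mul]
  have e2 : b * (a * b) = a := by rw [hab, ← mul_assoc, hb, one_mul]
  have e3 : b * a = a * b := hab.symm
  induction hv using Subgroup.closure_induction_left with
  | one => exact Or.inl rfl
  | mul_left c hc w _ hw =>
    rcases hc with rfl | hc
    · rcases hw with rfl | rfl | rfl | rfl <;> simp [ha, e1]
    · rw [Set.mem_singleton_iff.1 hc]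
      rcases hw with rfl | rfl | rfl | rfl <;> simp [hb, e2, e3]
  | inv_mul_cancel c hc w _ hw =>
    rcases hc with rfl | hc
    · rw [inv_eq_of_mul_eq_one_right ha]
      rcases hw with rfl | rfl | rfl | rfl <;> simp [ha, e1]
    · rw [Set.mem_singleton_iff.1 hc, inv_eq_of_mul_eq_one_right hb]
      rcases hw with rfl | rfl | rfl | rfl <;> simp [hb, e2, e3]

/-- A criterion for being extraspecial. -/
theorem isExtraspecial_two {P : Subgroup G} {u : G} (hu : u ∈ P) (hu2 : u * u = 1) (hu1 : u ≠ 1)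
    (hcomm : ∀ q ∈ P, q * u = u * q)
    (hbrack : ∀ a ∈ P, ∀ b ∈ P, a * b * a⁻¹ * b⁻¹ = 1 ∨ a * b * a⁻¹ * b⁻¹ = u)
    (hsq : ∀ a ∈ P, a * a = 1 ∨ a * a = u)
    (hcen : ∀ a ∈ P, (∀ b ∈ P, a * b = b * a) → a = 1 ∨ a = u)
    (hna : ∃ a ∈ P, ∃ b ∈ P, a * b ≠ b * a) :
    Cfsg.IsExtraspecial 2 ↥P ∧ (Subgroup.center ↥P).map P.subtype = Subgroup.zpowers u := by
  haveI : Fact (Nat.Prime 2) := ⟨Nat.prime_two⟩
  have hp : IsPGroup 2 P := fun a => by
    refine ⟨2, Subtype.ext ?_⟩
    show (a : G) ^ 4 = 1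
    rw [show (a : G) ^ 4 = a * a * (a * a) by simp [pow_succ, mul_assoc]]
    rcases hsq a a.2 with e | e <;> rw [e]
    exacts [one_mul 1, hu2]
  have huc : (⟨u, hu⟩ : P) ∈ Subgroup.center P :=
    Subgroup.mem_center_iff.2 fun q => Subtype.ext (hcomm q q.2)
  have hc : Subgroup.center ↥P = Subgroup.zpowers ⟨u, hu⟩ := by
    refine le_antisymm (fun a ha => ?_) (Subgroup.zpowers_le.2 huc)
    rcases hcen a a.2 (fun b hb => (congrArg Subtype.val (Subgroup.mem_center_iff.1 ha ⟨b, hb⟩)).symm) with e | e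
    · rw [show a = 1 from Subtype.ext e]; exact one_mem _
    · rw [show a = ⟨u, hu⟩ from Subtype.ext e]; exact Subgroup.mem_zpowers _
  have hord : orderOf (⟨u, hu⟩ : P) = 2 :=
    orderOf_eq_prime (Subtype.ext (by show u ^ 2 = 1; rw [pow_two, hu2])) (fun e => hu1 (congrArg Subtype.val e))
  have hmemc : ∀ w : P, (w : G) = 1 ∨ (w : G) = u → w ∈ Subgroup.center P := by
    rintro w (e | e)
    · rw [show w = 1 from Subtype.ext e]; exact one_mem _
    · rw [show w = ⟨u, hu⟩ from Subtype.ext e]; exact huc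
  have hcomle : commutator P ≤ Subgroup.center P := by
    rw [_root_.commutator_def, Subgroup.commutator_le]
    intro a _ b _
    exact hmemc _ (hbrack a a.2 b b.2)
  have hcomge : Subgroup.center P ≤ commutator P := by
    rw [hc, Subgroup.zpowers_le]
    obtain ⟨a, ha, b, hb, hab⟩ := hna
    have e : a * b * a⁻¹ * b⁻¹ = u := (hbrack a ha b hb).resolve_left fun e => hab (by
      rw [mul_inv_eq_one] at e; exact mul_inv_eq_iff_eq_mul.1 e)
    have := Subgroup.commutator_mem_commutator (Subgroup.mem_top (⟨a, ha⟩ : P)) (Subgroup.mem_top (⟨b, hb⟩ : P))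
    rw [← _root_.commutator_def] at this
    convert this using 1
    exact Subtype.ext e.symm
  refine ⟨⟨⟨hp, le_antisymm ?_ (hcomge.trans (Cfsg.Lib.Solv.commutator_le_frattini hp)),
    le_antisymm hcomle hcomge⟩, by rw [hc, Nat.card_zpowers, hord]⟩, by rw [hc, MonoidHom.map_zpowers]; rfl⟩
  refine Cfsg.Lib.Solv.frattini_le_of_elementary_quotient (p := 2) _ hcomle fun a => hmemc _ ?_
  rw [pow_two]
  exact hsq a a.2

end Cfsg.Lib.Large.Pair
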