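import Cfsg.Agent.Lib.Large.Centralizer
import Cfsg.Agent.Lib.Transfer.PGroupNormal

/-! Simplicity from a large extraspecial subgroup. -/

set_option autoImplicit false

namespace Cfsg.Lib.Large.Pair

open Cfsg.Agent.S5595 (Data)

variable {G : Type*} [Group G] [Finite G]

theorem isPGroup_of_data {z : G} {Q : Subgroup G} (hd : Data z Q) : IsPGroup 2 Q := fun a => by
  refine ⟨2, Subtype.ext ?_⟩
  show (a : G) ^ 4 = 1
  rw [show (a : G) ^ 4 = a * a * (a * a) by simp [pow_succ, mul_assoc]]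
  rcases hd.square a a.2 with e | e <;> rw [e]
  exacts [one_mul 1, hd.sq]

/-- A second involution of `Q` forces every odd-order subgroup normalized by `Q` to be trivial. -/
theorem odd_trivial {z : G} {Q : Subgroup G} (hd : Data z Q) {u : G} (hu : u ∈ Q) (hu1 : u ≠ 1) (huz : u ≠ z)
    (huu : u * u = 1) (hc : ∀ c : G, c * u = u * c → ∃ k : ℕ, (c * z * c⁻¹ * z⁻¹) ^ 2 ^ k = 1)
    (K : Subgroup G) (hK : Odd (Nat.card K)) (hQK : Q ≤ Subgroup.normalizer (K : Set G)) : K = ⊥ := by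
  have htwo : ∀ a ∈ K, ∀ n : ℕ, a ^ 2 ^ n = 1 → a = 1 := by
    intro a ha n hn
    refine orderOf_eq_one_iff.1 (Nat.eq_one_of_dvd_coprimes ?_
      (Subgroup.orderOf_mk a ha ▸ orderOf_dvd_natCard (⟨a, ha⟩ : K)) (orderOf_dvd_of_pow_eq_one hn))
    exact Nat.Coprime.pow_right n (Nat.coprime_two_right.2 hK)
  have hnorm : ∀ q ∈ Q, ∀ k ∈ K, q * k * q⁻¹ ∈ K := fun q hq k hk =>
    (Subgroup.mem_normalizer_iff.1 (hQK hq) k).1 hk
  have hcom : ∀ q ∈ Q, ∀ k ∈ K, k * q * k⁻¹ * q⁻¹ ∈ K := fun q hq k hk => by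
    rw [show k * q * k⁻¹ * q⁻¹ = k * (q * k⁻¹ * q⁻¹) by group]
    exact mul_mem hk (hnorm q hq _ (inv_mem hk))
  have hp := isPGroup_of_data hd
  have hfixz : ∀ k ∈ K, k * z = z * k → k = 1 := by
    intro k hk hkz
    have hall : ∀ q ∈ Q, k * q = q * k := fun q hq => by
      obtain ⟨n, hn⟩ := hp ⟨_, mul_mem (hd.conj k hkz q hq) (inv_mem hq)⟩
      exact mul_inv_eq_iff_eq_mul.1 (mul_inv_eq_one.1 (htwo _ (hcom q hq k hk) n (congrArg Subtype.val hn)))
    obtain ⟨n, hn⟩ := hp ⟨k, hd.selfc k hall⟩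
    exact htwo k hk n (congrArg Subtype.val hn)
  have hfixu : ∀ k ∈ K, k * u = u * k → k = 1 := by
    intro k hk hku
    obtain ⟨n, hn⟩ := hc k hku
    exact hfixz k hk (mul_inv_eq_iff_eq_mul.1 (mul_inv_eq_one.1 (htwo _ (hcom z hd.mem k hk) n hn)))
  have hinv : ∀ t, t ∈ Q → t * t = 1 → (∀ k ∈ K, k * t = t * k → k = 1) → ∀ k ∈ K, t * k * t⁻¹ = k⁻¹ := by
    intro t ht htt hfix k hk
    have ti : t⁻¹ = t := inv_eq_of_mul_eq_one_right htt
    let f : K → K := fun a => ⟨(a : G)⁻¹ * (t * a * t⁻¹), mul_mem (inv_mem a.2) (hnorm t ht a a.2)⟩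
    have hf : Function.Injective f := by
      intro a b e
      have e' : (a : G)⁻¹ * (t * a * t⁻¹) = (b : G)⁻¹ * (t * b * t⁻¹) := congrArg Subtype.val e
      have := hfix ((b : G) * (a : G)⁻¹) (mul_mem b.2 (inv_mem a.2)) (by
        have := congrArg (fun w => (b : G) * w * t * (a : G)⁻¹) e'
        simpa [mul_assoc] using this)
      exact Subtype.ext (mul_inv_eq_one.1 this).symm
    obtain ⟨a, ha⟩ := (Finite.injective_iff_surjective.1 hf) ⟨k, hk⟩
    have ha' : (a : G)⁻¹ * (t * a * t⁻¹) = k := congrArg Subtype.val ha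
    rw [← ha', ti, show t * ((a : G)⁻¹ * (t * a * t)) * t = t * (a : G)⁻¹ * t * a * (t * t) by group, htt, mul_one,
      mul_inv_rev, inv_inv, mul_inv_rev, mul_inv_rev, ti]
    group
  rw [Subgroup.eq_bot_iff_forall]
  intro k hk
  have ez := hinv z hd.mem hd.sq hfixz k hk
  have eu := hinv u hu huu hfixu k hk
  have ek : k * (u * z) = u * z * k := by
    refine (mul_inv_eq_iff_eq_mul.1 ?_).symm
    rw [show u * z * k * (u * z)⁻¹ = u * (z * k * z⁻¹) * u⁻¹ by group, ez,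
      show u * k⁻¹ * u⁻¹ = (u * k * u⁻¹)⁻¹ by group, eu, inv_inv]
  -- `u` is conjugate to `u * z` in `Q`
  obtain ⟨q, hq, hqu⟩ : ∃ q ∈ Q, q * u * q⁻¹ = u * z := by
    by_contra hcon
    push Not at hcon
    rcases hd.central u hu (fun b hb => by
      rcases Cfsg.Lib.Large.Singular.conj_cases hd hb hu with ⟨e, -⟩ | ⟨-, e⟩
      · exact e.symm
      · exact absurd e (hcon b hb)) with e | e
    exacts [hu1 e, huz e]
  have h1 := hfixu (q⁻¹ * k * q) (by simpa using hnorm q⁻¹ (inv_mem hq) k hk) (by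
    rw [← hqu] at ek
    have := congrArg (fun w => q⁻¹ * w * q) ek
    simpa [mul_assoc] using this)
  have := congrArg (fun w => q * w * q⁻¹) h1
  simpa [mul_assoc] using this

/-- The simplicity criterion. -/
theorem simple_of {z : G} {Q : Subgroup G} (hd : Data z Q)
    (hodd : ∀ K : Subgroup G, Odd (Nat.card K) → Q ≤ Subgroup.normalizer (K : Set G) → K = ⊥)
    (hC : Subgroup.centralizer ({z} : Set G) ≤ Subgroup.normalClosure ({z} : Set G)) : IsSimpleGroup G := by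
  classical
  haveI : Fact (Nat.Prime 2) := ⟨Nat.prime_two⟩
  have hp := isPGroup_of_data hd
  obtain ⟨T, hQT⟩ := hp.exists_le_sylow
  have hTp : IsPGroup 2 (T : Subgroup G) := T.isPGroup'
  have hcen : ∀ a : (T : Subgroup G), a ∈ Subgroup.center (T : Subgroup G) → (a : G) = 1 ∨ (a : G) = z := by
    intro a ha
    have hcom : ∀ q ∈ Q, (a : G) * q = q * a := fun q hq =>
      (congrArg Subtype.val (Subgroup.mem_center_iff.1 ha ⟨q, hQT hq⟩)).symm
    exact hd.central a (hd.selfc _ hcom) hcom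
  have hTnt : Nontrivial (T : Subgroup G) :=
    ⟨⟨⟨z, hQT hd.mem⟩, 1, fun e => hd.ne (congrArg Subtype.val e)⟩⟩
  have hzc : ∀ t ∈ (T : Subgroup G), t * z = z * t := by
    intro t ht
    obtain ⟨a, ha, ha1⟩ := ((Subgroup.center (T : Subgroup G)).ne_bot_iff_exists_ne_one.1 (by
      have := hTp.center_nontrivial
      exact (Subgroup.nontrivial_iff_ne_bot _).1 this) : ∃ a, _) |> fun ⟨⟨a, ha⟩, h1⟩ =>
        (⟨a, ha, fun e => h1 (Subtype.ext e)⟩ : ∃ a, a ∈ Subgroup.center (T : Subgroup G) ∧ a ≠ 1)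
    have e := (hcen a ha).resolve_left fun e => ha1 (Subtype.ext e)
    have := congrArg Subtype.val (Subgroup.mem_center_iff.1 ha ⟨t, ht⟩)
    simp only [Subgroup.coe_mul] at this
    rwa [e] at this
  have hzT : (⟨z, hQT hd.mem⟩ : (T : Subgroup G)) ∈ Subgroup.center (T : Subgroup G) :=
    Subgroup.mem_center_iff.2 fun t => Subtype.ext (hzc t t.2)
  set M := Subgroup.normalClosure ({z} : Set G)
  have hTM : (T : Subgroup G) ≤ M := fun t ht => hC (Subgroup.mem_centralizer_singleton_iff.2 (hzc t ht))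
  have hNT : Subgroup.normalizer ((T : Subgroup G) : Set G) ≤ M := by
    intro c hc
    refine hC (Subgroup.mem_centralizer_singleton_iff.2 ?_)
    have hm : c * z * c⁻¹ ∈ (T : Subgroup G) := (Subgroup.mem_normalizer_iff.1 hc z).1 (hQT hd.mem)
    rcases hcen ⟨_, hm⟩ (Subgroup.mem_center_iff.2 fun t => Subtype.ext (by
      have ht : c⁻¹ * (t : G) * c ∈ (T : Subgroup G) := by
        have := (Subgroup.mem_normalizer_iff.1 (inv_mem hc) (t : G)).1 t.2
        rwa [inv_inv] at this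
      have := congrArg (fun w => c * w * c⁻¹) (hzc _ ht)
      show (t : G) * (c * z * c⁻¹) = c * z * c⁻¹ * t
      convert this using 1 <;> group)) with e | e
    · exact absurd (conj_eq_one_iff.1 e) hd.ne
    · exact mul_inv_eq_iff_eq_mul.1 e
  have hMtop : M = ⊤ := by
    have := Sylow.normalizer_sup_eq_top' T hTM
    exact (sup_eq_right.2 hNT).symm.trans this
  haveI : Nontrivial G := ⟨⟨z, 1, hd.ne⟩⟩
  refine ⟨fun N hN => ?_⟩
  by_cases hodd' : Odd (Nat.card N)
  · exact Or.inl (hodd N hodd' (by rw [Subgroup.normalizer_eq_top]; exact le_top))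
  right
  obtain ⟨a, ha⟩ : ∃ a : N, orderOf a = 2 :=
    exists_prime_orderOf_dvd_card' 2 (even_iff_two_dvd.1 (Nat.not_odd_iff_even.1 hodd'))
  have ha2 : IsPGroup 2 (Subgroup.zpowers (a : G)) :=
    IsPGroup.of_card (n := 1) (by rw [Nat.card_zpowers, Subgroup.orderOf_coe, ha, pow_one])
  obtain ⟨T', hT'⟩ := ha2.exists_le_sylow
  obtain ⟨c, hc⟩ := MulAction.exists_smul_eq G T' T
  have hmem : c * (a : G) * c⁻¹ ∈ (T : Subgroup G) := by
    rw [← hc]
    exact ⟨(a : G), hT' (Subgroup.mem_zpowers _), rfl⟩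
  have hmN : c * (a : G) * c⁻¹ ∈ N := hN.conj_mem _ a.2 c
  have hne : N.subgroupOf (T : Subgroup G) ≠ ⊥ := by
    intro e
    have : (⟨_, hmem⟩ : (T : Subgroup G)) ∈ N.subgroupOf (T : Subgroup G) := hmN
    rw [e, Subgroup.mem_bot] at this
    have h1 : (a : G) = 1 := conj_eq_one_iff.1 (congrArg Subtype.val this)
    rw [← Subgroup.orderOf_coe, h1, orderOf_one] at ha
    omega
  obtain ⟨⟨b, hb⟩, hb1⟩ := Subgroup.ne_bot_iff_exists_ne_one.1
    (Cfsg.Lib.Transfer.inf_center_ne_bot hTp (N.subgroupOf (T : Subgroup G)) hne)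
  have hbz := (hcen b hb.2).resolve_left fun e => hb1 (Subtype.ext (Subtype.ext e))
  have hzN : z ∈ N := hbz ▸ (Subgroup.mem_subgroupOf.1 hb.1)
  exact top_le_iff.1 (hMtop ▸ Subgroup.normalClosure_le_normal (Set.singleton_subset_iff.2 hzN))

end Cfsg.Lib.Large.Pair
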